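import Cfsg.Agent.Lib.Spor.TC.Signed

/-!
An excluded extension of the centralizer, case 0 2 0: tables found by a computer search.
-/

set_option autoImplicit false
set_option maxRecDepth 100000

namespace CfsgLib.Spor.HSType.Cert.H020

open CfsgLib.Spor.TC

def edgeTbl : Tbl :=
  (.bin (.bin (.tip 0x150000610001400015300013000140000020001320000400008500000000129000100000280001100003900010000110000000001080000f0000370000e0000f00000e0000e4000000000e60000c0000d1000070000c10000a0000b3000090000a30000800009000004000082000070000120000600007100005000063000040000500000100004200001000015000030000000000200003000000000004000000000020000100002000000000010) (.tip 0x2700009a000070003c90003b0000c9000390003b00003a0000c7000370003a00003900007900038000390000060003880003700007700036000370000060003660003500006400034000357000330003430003200033500031000322000300003140002f0003070002e0002f30002d0002e40002c0002d90002b0002c30002a0002b0000290002a000028000292000050002880002700005400026000274000260000550002500026000004000254)) (.bin (.tip 0x11000018000110001ba0000f0001f00000d0001420000d000061000150000da0000c0001ea000240001f80001200024600012000029000120001a00002300012a000230001a0000020002380001f0000260002200019700021000223000200002100001f000202000020001f60001e0001510001d0001e30001c0001d0000030001c2000010001b90001a000038000010001a8000190000b100018000193000170001830001600017000013000162)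 (.tip 0x10000000000300001a0001a00011a0001200010a000240002440004600024a000460004640000e0004680004500024300044000450000430004420004200043800041000423000400004100003c0004020003c0000d90003f0003ca0003e0002240003f0000d90003b0003f00003e0000d70003a0003e00000d0001950000b000064000350000ba0003d00006a0000b0003d400009000054)))

def nodeTbl : Tbl :=
  (.bin (.bin (.tip 0x260001d30001c00000320000190000180001830001730001600001320001430001300000220000090001000000080000e00000060000c10000710000a3000093000080000042000061000053000040000012000020000010000000000000) (.tip 0xe80004400004320004280004130004000003c2)) (.bin (.tip 0x3b00003a00000b40000790003900003700003800000680003600000660003470003330003250003120003040002f70002e30002d40002c90002b30002a00002900002820000580002640002500000440001260000280002130002000001f2) .none))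

def rowTbl : Tbl :=
  .none

/-- The relators. -/
def rels : List (List ℕ) := [
  [0, 0, 0, 0],
  [2, 2, 2, 2, 2, 2, 2],
  [4, 4, 4],
  [4, 2, 5, 3, 3],
  [4, 0, 5, 1],
  [0, 2, 0, 3, 1, 2, 1, 3],
  [0, 2, 2, 0, 3, 3, 1, 2, 2, 1, 3, 3],
  [2, 0, 3, 2, 2, 0, 3, 3, 2, 1, 3, 2, 2, 1, 3, 3],
  [2, 2, 2, 0, 3, 3, 3, 2, 2, 1, 3, 3, 2, 2, 1, 3, 3, 2, 1, 3, 2, 1, 3, 2, 1, 3, 1],
  [6, 4, 7, 4],
  [6, 0, 7, 0],
  [6, 2, 0, 3, 7, 2, 2, 1, 3, 3],
  [6, 6],
  [2, 6, 2, 6, 2, 6],
  [8, 4, 9, 5],
  [8, 0, 9, 0],
  [8, 8, 1, 1],
  [8, 6, 8, 6],
  [8, 2, 0, 0, 3, 9, 4, 3, 7, 4, 2, 5, 3, 7, 4, 2],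
  [8, 3, 5, 6, 2, 9, 2, 2, 1, 3, 3, 2, 2, 1, 3, 3],
  [8, 2, 0, 3, 8, 2, 0, 3, 8, 2, 0, 3, 5, 7]]

/-- The generators of the subgroup. -/
def subs : List (List ℕ) := [[2], [4]]

/-- The certificate. -/
noncomputable def cert : Cert :=
  ⟨10, rels, subs, edgeTbl.get 44, nodeTbl.get 24, rowTbl.get 20⟩

/-- The word traced into the subgroup. -/
def target : List ℕ := [0, 0]

end CfsgLib.Spor.HSType.Cert.H020
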