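import Cfsg.Agent.Lib.Spor.HSType.Cert.H020.Data

/-!
Checks of a part of the derivation.
-/

set_option autoImplicit false

namespace CfsgLib.Spor.HSType.Cert.H020

open CfsgLib.Spor.TC

def scodes0 : List ℕ := [
  0x1,
  0x1,
  0x10000100003,
  0x10000200003,
  0x1,
  0x2000040000a00004000010000100002,
  0x1000080000200003000010000500002,
  0x1,
  0x1,
  0x1,
  0x1,
  0x100005000020001000012000140001600006000010000600002,
  0x1,
  0x1,
  0x1,
  0x1,
  0x1,
  0x1,
  0x1,
  0x25000080002600002000010000a00002,
  0x1,
  0xc000260002a00003000010000b00002,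
  0x1,
  0x1,
  0xc0002e0003000003000010001000002,
  0x3000010002e00002000010001100002,
  0x1,
  0x190000f0000d0001000003000020000400002,
  0x1,
  0x1,
  0x1,
  0x13000110000f000040003a0003c0003e00005000020000600002,
  0x1,
  0x1,
  0x1,
  0x1,
  0x1f0001d0001b000190000f000040003a0004200044000460004800007000020000700002,
  0x1,
  0x9000030004c00002000020001100002,
  0x1,
  0x1,
  0x1,
  0x1,
  0x3d0003b000390000a00052000540005600005000030000600002,
  0x1,
  0x1,
  0x1,
  0x1,
  0x47000450004300041000390005a0005c0005e0006000005000030000c00002,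
  0x5a00002000030000d00002,
  0x1,
  0x4b000040006600002000030001000002,
  0x350000b000090006600002000030001100002,
  0x670006a00004,
  0x660006a00004,
  0x1,
  0x640006d0007000003000030001200002,
  0x5500053000510000c0000600002000170002200006000040000600002,
  0x23000740005800004,
  0x3f0007600004,
  0x3e0007600004,
  0x590000a0002b00002000040000b00002,
  0x4f000010000b0003100002000040001100002,
  0x500007d00004,
  0x1,
  0x1,
  0x11000820008400003000050000500002,
  0x1,
  0x850008800003000060000300002,
  0x1,
  0x1,
  0x1,
  0x1,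
  0x1,
  0x1,
  0x1,
  0x1,
  0x1,
  0x1,
  0x1,
  0x1,
  0x1,
  0x1,
  0x130008c0008e00090000920009400096000980009a0009c0009e000a0000a2000a4000a60000f000060001300002,
  0x1,
  0x1,
  0x15000aa000ac00003000070000b00002,
  0x1,
  0x1,
  0x15000b0000b200003000070001000002,
  0x1,
  0x21000ad000b600003000080000b00002,
  0x1,
  0x21000b3000ba00003000080001000002,
  0x1,
  0x1b00037000120008900004000090000500002,
  0x89000c000004,
  0x1,
  0x13000c10001e00020000c4000020000c0000400002,
  0xc4000c6000a700004,
  0xa7000c800004,
  0x4a000ca00077000030000c0000500002,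
  0x1,
  0x23000b7000ce000030000d0000b00002,
  0x1,
  0x23000bb000d2000030000d0001000002,
  0x62000cb000cf000020000e0000a00002,
  0xbd0002200024000d3000020000e0001100002,
  0xd3000d800004,
  0x1,
  0x1,
  0x1,
  0x1,
  0x1,
  0x1,
  0x720005c0005e00060000d5000d0000d9000dc000de000e0000e2000e4000e6000080000e0001500002,
  0x1,
  0xe900027000ea000020000f0000f00002,
  0x720007b00029000ea000020000f0001100002,
  0xed000eb000ee00004,
  0x340003a0003c00079000d9000dc000de000e0000e2000e4000e6000e8000ef0006f0000f000110001500002,
  0x2f000f10006c00004,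
  0x7f000f30004e00004,
  0xb000f600004]

set_option maxRecDepth 100000 in
theorem steps0 : cert.SStepsOK 0 124 :=
  Cert.SStepsOK.of_check _ (codes := scodes0) (by decide +kernel)

end CfsgLib.Spor.HSType.Cert.H020
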